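import Cfsg.Agent.N2.Tool
import Cfsg.Agent.SB.SporB.BAbs
import Cfsg.Agent.H230.RelTwo
import Cfsg.Agent.S0144
import Cfsg.Prelude.Def_KGroupFacts

/-!
# S3519, sporadic rows: local lemmas (helper82)

* `Mx A` : `A` contains the normaliser of every proper non-trivial subgroup which it normalises; `mx_of_mi`.
* `solv_cent` : the centraliser of `O_p(A)`; `core_three` : mixed Fitting subgroup; `card_le_mixed`.
-/

set_option autoImplicit false
set_option linter.unusedSectionVars false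

namespace Cfsg.Agent.N2.Sp4T

open Subgroup Cfsg Cfsg.Agent.FP3 Cfsg.Agent.SB Cfsg.Agent.SB.Mon Cfsg.Agent.SB.SporB

variable {G : Type*} [Group G]

/-- `A` contains the normaliser of every proper non-trivial subgroup which it normalises -/
def Mx (A : Subgroup G) : Prop := ∀ U : Subgroup G, U ≠ ⊥ → U ≠ ⊤ → (∀ s ∈ A, ∀ u ∈ U, s * u * s⁻¹ ∈ U) →
  ∀ g, (∀ u ∈ U, g * u * g⁻¹ ∈ U) → g ∈ A

theorem mx_of_mi [Finite G] [IsSimpleGroup G] (ho : Nat.card (Out G) = 1) {A : Subgroup G} {Γ : Subgroup (MulAut G)}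
    (h : MI A Γ) : Mx A := by
  intro U h0 h1 hn g hg
  have h2 : Cfsg.Inn G = ⊤ := index_eq_one.1 ho
  have h3 : Inv Γ U := fun σ hσ x hx => by
    obtain ⟨a, rfl⟩ : σ ∈ Cfsg.Inn G := h2 ▸ mem_top σ
    exact hn a ((h.conj a).1 hσ) x hx
  rw [← mi_norm h h3 h0 h1]
  exact norm_of (H := zpowers g) (X := U) (fun x hx => by
    obtain ⟨k, rfl⟩ := (mem_powers_iff_mem_zpowers.2 hx :)
    induction k with
    | zero => intro u hu; simpa using hu
    | succ k ih =>
      intro u hu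
      have := ih (mem_powers_iff_mem_zpowers.1 ⟨k, rfl⟩) _ (hg u hu)
      simpa [pow_succ, mul_assoc] using this) (mem_zpowers g)

theorem out_congr {H : Type*} [Group H] (e : G ≃* H) (ho : Nat.card (Out H) = 1) : Nat.card (Out G) = 1 := by
  have h2 : Cfsg.Inn H = ⊤ := index_eq_one.1 ho
  refine index_eq_one.2 (eq_top_iff.2 fun σ _ => ?_)
  obtain ⟨a, ha⟩ : MulAut.congr e σ ∈ Cfsg.Inn H := h2 ▸ mem_top _
  refine ⟨e.symm a, MulEquiv.ext fun x => e.injective ?_⟩
  have := congrArg (fun τ : MulAut H => τ (e x)) ha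
  simpa using this

theorem Mx.map {H : Type*} [Group H] {A : Subgroup G} (h : Mx A) (e : G ≃* H) : Mx (A.map e.toMonoidHom) := by
  intro U h0 h1 hn g hg
  refine ⟨e.symm g, h (U.comap e.toMonoidHom) (fun k => h0 ?_) (fun k => h1 ?_) (fun s hs u hu => ?_) _ fun u hu => ?_,
    by simp⟩
  · rw [← map_comap_eq_self_of_surjective (f := e.toMonoidHom) e.surjective U, k, Subgroup.map_bot]
  · rw [← map_comap_eq_self_of_surjective (f := e.toMonoidHom) e.surjective U, k,
      map_top_of_surjective _ e.surjective]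
  · simpa [mem_comap] using hn _ ⟨s, hs, rfl⟩ _ hu
  · simpa [mem_comap] using hg _ hu

theorem Mx.cent {A U : Subgroup G} (h : Mx A) (h0 : U ≠ ⊥) (h1 : U ≠ ⊤) (hn : ∀ s ∈ A, ∀ u ∈ U, s * u * s⁻¹ ∈ U) {g : G}
    (hg : ∀ u ∈ U, g * u = u * g) : g ∈ A :=
  h U h0 h1 hn g fun u hu => by rw [hg u hu, mul_inv_cancel_right]; exact hu

variable [Finite G]

theorem ne_top_of_pgroup {p q : ℕ} (hp : p.Prime) (hq : q.Prime) (hne : q ≠ p) (hd : q ∣ Nat.card G) {U : Subgroup G}
    (hU : IsPGroup p U) : U ≠ ⊤ := by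
  rintro rfl
  have := Fact.mk hp
  obtain ⟨n, hn⟩ := IsPGroup.iff_card.1 hU
  rw [card_top] at hn
  exact hne ((Nat.prime_dvd_prime_iff_eq hq hp).1 (hq.dvd_of_dvd_pow (hn ▸ hd)))

theorem exists_ord {p : ℕ} (hp : p.Prime) {U : Subgroup G} (hU : IsPGroup p U) (h0 : U ≠ ⊥) : ∃ e ∈ U, orderOf e = p := by
  have := Fact.mk hp
  obtain ⟨n, hn⟩ := IsPGroup.iff_card.1 hU
  obtain ⟨e, he⟩ := exists_prime_orderOf_dvd_card' (G := U) p (by
    rw [hn]
    refine dvd_pow_self p fun h => h0 (card_eq_one.1 ?_)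
    rw [hn, h, pow_zero])
  exact ⟨e, e.2, by rw [orderOf_coe, he]⟩

/-- a `{2,3}`-group is solvable -/
theorem solv_of_primes {C : Subgroup G} (h : ∀ r : ℕ, r.Prime → r ∣ Nat.card C → r = 2 ∨ r = 3) : Group.IsSolvable C := by
  have h0 : Nat.card C ≠ 0 := Nat.card_pos.ne'
  obtain ⟨i, m, hm, hn⟩ := Nat.exists_eq_two_pow_mul_odd h0
  have hm0 : m ≠ 0 := by rintro rfl; simp at hm
  have h3 : m = 3 ^ m.primeFactorsList.length := by
    refine Nat.eq_prime_pow_of_unique_prime_dvd hm0 fun {q} hq hd => ?_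
    rcases h q hq (hn ▸ hd.mul_left _) with rfl | h1
    · exact absurd hm (Nat.not_odd_iff_even.2 (even_iff_two_dvd.2 hd))
    · exact h1
  exact S0144.result 2 3 i _ Nat.prime_two Nat.prime_three (hn.trans (by rw [← h3]))

/-- the primes of a subgroup of `A` which centralises an element of prime order `p` -/
theorem primes_cent {A C : Subgroup G} (hC : C ≤ A) {p : ℕ} (hp : p.Prime) {e : G} (he : e ∈ A) (ho : orderOf e = p)
    (hc : ∀ c ∈ C, c * e = e * c) {r : ℕ} (hr : r.Prime) (hd : r ∣ Nat.card C) : r = p ∨ ∃ a ∈ A, orderOf a = p * r := by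
  have := Fact.mk hr
  obtain ⟨x, hx⟩ := exists_prime_orderOf_dvd_card' (G := C) r hd
  by_cases h : r = p
  · exact Or.inl h
  refine Or.inr ⟨e * x, mul_mem he (hC x.2), ?_⟩
  have h1 : orderOf (x : G) = r := by rw [orderOf_coe, hx]
  rw [Commute.orderOf_mul_eq_mul_orderOf_of_coprime (hc x x.2).symm, ho, h1]
  rw [ho, h1]
  exact (Nat.coprime_primes hp hr).2 (Ne.symm h)

theorem cent_norm {A U : Subgroup G} (hn : ∀ s ∈ A, ∀ u ∈ U, s * u * s⁻¹ ∈ U) :
    A ≤ normalizer (centralizer (U : Set G) : Set G) := (norm_of hn).trans norm_cent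

/-- **the mixed case**: the centraliser of `O_p(A)` is a `{2,3}`-subgroup of `A` not inside `O_p(A)` -/
theorem core_other {A : Subgroup G} {p q : ℕ} (hpq : (p = 2 ∧ q = 3) ∨ (p = 3 ∧ q = 2))
    (hC : centralizer (core p A : Set G) ≤ A)
    (h23 : ∀ r : ℕ, r.Prime → r ∣ Nat.card (centralizer (core p A : Set G)) → r = 2 ∨ r = 3) {z : G}
    (hz : ∀ u ∈ core p A, z * u = u * z) (hz' : z ∉ core p A) : core q A ≠ ⊥ := by
  intro h3
  set C := centralizer (core p A : Set G)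
  have hle : ∀ r, core r C ≤ core r A := fun r => H230.pCoreOf_le_pCoreOf hC (cent_norm (core_conj p))
  have h4 : ∀ f ∈ fit C, f ∈ core p A := by
    intro f hf
    obtain ⟨x, hx, a, ha, rfl⟩ := fit_split (S := C) (fun c hc hp => h23 _ hp (by
      obtain ⟨c, -, rfl⟩ := hc
      rw [coe_subtype, orderOf_coe]
      exact orderOf_dvd_natCard c)) hf
    rcases hpq with ⟨rfl, rfl⟩ | ⟨rfl, rfl⟩
    · have k := hle 3 ha
      rw [h3, mem_bot] at k
      rw [k, mul_one]; exact hle 2 hx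
    · have k := hle 2 hx
      rw [h3, mem_bot] at k
      rw [k, one_mul]; exact hle 3 ha
  exact hz' (h4 z (mem_fit_of_cent (solv_of_primes h23) (mem_cent.2 hz) fun f hf => hz f (h4 f hf)))

/-- the order of `A` from two normal subgroups -/
theorem card_le_mixed {A U Z : Subgroup G} (hU : ∀ s ∈ A, ∀ u ∈ U, s * u * s⁻¹ ∈ U) (hZ : ∀ s ∈ A, ∀ u ∈ Z, s * u * s⁻¹ ∈ Z)
    {e x : G} (he : e ∈ U) (hx : x ∈ Z) : Nat.card A ≤ Nat.card U * Nat.card Z * cn (e * x) := by
  have h1 := card_le_of_conj (S := A) (Z := U) (y := e) fun s hs => hU s hs e he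
  have h2 := card_le_of_conj (S := A ⊓ centralizer {e}) (Z := Z) (y := x) fun s hs => hZ s hs.1 x hx
  have h3 : Nat.card ↥(A ⊓ centralizer {e} ⊓ centralizer {x}) ≤ cn (e * x) := card_le_of_le fun g hg =>
    mem_centralizer_singleton_iff.2 (by
      rw [← mul_assoc, mem_centralizer_singleton_iff.1 hg.1.2, mul_assoc, mem_centralizer_singleton_iff.1 hg.2, mul_assoc])
  rw [mul_assoc]
  exact h1.trans (Nat.mul_le_mul_left _ (h2.trans (Nat.mul_le_mul_left _ h3)))

end Cfsg.Agent.N2.Sp4T
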