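import Cfsg.Agent.N2.Sp4T.Geo
import Cfsg.Agent.N2.Sp4T.Mx
import Cfsg.Agent.SB.SporB.RowB

/-!
# S3519: the 2-local case in the Monster and in the Baby Monster (helper82)
-/

set_option autoImplicit false
set_option maxRecDepth 100000
set_option linter.unusedSectionVars false

namespace Cfsg.Agent.N2.Sp4T

open Subgroup Cfsg Cfsg.Agent.FP3 Cfsg.Agent.SB Cfsg.Agent.SB.Mon Cfsg.Agent.SB.SporB
open Cfsg.Agent.R2.M7 Cfsg.Agent.R2.M7.Geo
open Cfsg.Agent.H251 (le_pCoreOf)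
open Cfsg.Agent.BMx (BM)

theorem two_MG {A : Subgroup MG} (h : Mx A) (h0 : pCoreOf 2 A ≠ ⊥) : 7 ∣ Nat.card A := by
  have := Cfsg.Agent.R2.H4.Mon.MonFr.finite_model
  obtain ⟨Γ, -, E⟩ := exists_ext
  by_contra h7
  exact noM7 E h7 h0 fun U k0 k2 hU g hg =>
    h U k0 (ne_top_of_pgroup Nat.prime_two Nat.prime_three (by norm_num) (by rw [card_MG]; norm_num) k2) hU g hg

theorem core_map_ne {G H : Type*} [Group G] [Group H] (e : G ≃* H) {A : Subgroup G} {p : ℕ} (h0 : pCore p A ≠ ⊥) :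
    pCoreOf p (A.map e.toMonoidHom) ≠ ⊥ := by
  intro h
  refine h0 (eq_bot_iff.2 fun x hx => ?_)
  have h1 : (pCoreOf p A).map e.toMonoidHom ≤ pCoreOf p (A.map e.toMonoidHom) := by
    refine H230.le_pCoreOf (map_mono (map_subtype_le _)) ?_ (((Lib.Cores.pCore_isPGroup (G := A) p).map _).map _)
    rintro _ ⟨s, hs, rfl⟩
    have h2 : s ∈ normalizer (pCoreOf p A : Set G) := by
      have h3 : (pCore p A).Normal := inferInstance
      refine mem_normalizer_iff.2 fun y => ⟨?_, ?_⟩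
      · rintro ⟨y, hy, rfl⟩
        exact ⟨_, h3.conj_mem y hy ⟨s, hs⟩, rfl⟩
      · rintro ⟨y', hy, h4⟩
        refine ⟨_, h3.conj_mem y' hy ⟨s, hs⟩⁻¹, ?_⟩
        have h5 : (y' : G) = s * y * s⁻¹ := h4
        simp [h5, mul_assoc]
    exact le_normalizer_map _ ⟨s, h2, rfl⟩
  have h2 := mem_bot.1 (h ▸ h1 ⟨x, ⟨x, hx, rfl⟩, rfl⟩)
  exact mem_bot.2 (Subtype.ext (e.injective (by simpa using h2)))

/-- **The Monster, `O₂(A) ≠ 1`.** -/
theorem two_M {K : Type} [Group K] [Finite K] [IsSimpleGroup K] (h : Spor.IsoM K) {A : Subgroup K}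
    {Γ : Subgroup (MulAut K)} (hA : MI A Γ) (h0 : pCore 2 A ≠ ⊥) : 7 ∣ Nat.card A := by
  obtain ⟨e1⟩ := h
  obtain ⟨e2⟩ := MonsterP.Equiv.equiv
  have e3 : Spor.Monster ≃* MG := e2
  have h1 := two_MG ((mx_of_mi (out_congr e1 S2085.result) hA).map (e1.trans e3)) (core_map_ne _ h0)
  rwa [card_map_of_injective (e1.trans e3).injective] at h1

section cover

variable {G X B : Type*} [Group G] [Group X] [Group B] [Finite G] [Finite X] [Finite B] {Γ : Geo G} {θ : X →* G}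
  {q : X →* B} {τ : X}

theorem ctxB7 (hq : R01.Lifts.Ext q τ) (hθ : Function.Injective θ) (hr : ∀ x, x * θ τ = θ τ * x → ∃ b, θ b = x)
    (hA : IsA Γ (θ τ)) {R : Subgroup B} (hR : ¬ 7 ∣ Nat.card R) (h3 : 3 ∣ Nat.card B) (hm : Mx R) :
    CtxB7 Γ (θ τ) (up θ q R) := by
  refine ⟨hA, ?_, ?_, ⟨τ, mem_comap.2 (by rw [hq.mapz]; exact one_mem _), rfl⟩, fun U hU hc hu hn g hg hgU => ?_⟩
  · intro h7
    rw [up, card_map_of_injective hθ] at h7
    have := Fact.mk (show Nat.Prime 7 by norm_num)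
    obtain ⟨x, hx⟩ := exists_prime_orderOf_dvd_card' (G := R.comap q) 7 h7
    have h1 : orderOf (x : X) = 7 := by rw [orderOf_coe, hx]
    have h2 : orderOf (q x) = 7 := by
      refine orderOf_eq_prime (by rw [← map_pow, ← h1, pow_orderOf_eq_one, map_one]) fun h => ?_
      have h4 : orderOf (x : X) ∣ 2 := orderOf_dvd_of_pow_eq_one (by
        rcases (hq.ker x).1 h with h | h <;> rw [h]
        exacts [one_pow 2, (pow_two τ).trans hq.zz])
      rw [h1] at h4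
      norm_num at h4
    exact hR (h2 ▸ orderOf_dvd_natCard R x.2)
  · rintro _ ⟨b, -, rfl⟩
    rw [← map_mul, hq.comm, map_mul]
  · obtain ⟨g, rfl⟩ := hr g hg
    refine ⟨g, hm ((U.comap θ).map q) (fun h => ?_) (ne_top_of_pgroup Nat.prime_two Nat.prime_three (by norm_num) h3
      ((hU.comap_of_injective θ hθ).map q)) ?_ _ ?_, rfl⟩
    · obtain ⟨u, hu, h1, h2⟩ := hu
      obtain ⟨b, rfl⟩ := hr u (hc u hu)
      rcases (hq.ker b).1 (mem_bot.1 (h ▸ mem_map_of_mem q (mem_comap.2 hu))) with rfl | rfl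
      exacts [h1 (map_one θ), h2 rfl]
    · rintro s hs _ ⟨u, hu, rfl⟩
      obtain ⟨s, rfl⟩ := hq.surj s
      exact ⟨s * u * s⁻¹, by simpa [mem_comap] using hn _ ⟨s, hs, rfl⟩ _ hu, by simp⟩
    · rintro _ ⟨u, hu, rfl⟩
      exact ⟨g * u * g⁻¹, by simpa [mem_comap] using hgU _ hu, by simp⟩

theorem no_pt7 (E : Ext Γ) (hq : R01.Lifts.Ext q τ) {R : Subgroup B} (C : CtxB7 Γ (θ τ) (up θ q R)) {b : X}
    (hb : q b ∈ core 2 R) : θ b ∉ Γ.Pt :=
  C.no_pt E _ (le_pCoreOf (up_two hq (core_pgroup 2)) (map_mono (comap_mono (map_subtype_le _)))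
    (norm_of (up_conj (core_conj 2))) ⟨b, hb, rfl⟩)

end cover

section main

open Cfsg.Agent.MonsterX Cfsg.Agent.MonsterX.InstData Cfsg.Agent.MonsterX.MainPack Cfsg.Agent.MonsterU
open Cfsg.Agent.MonsterN Cfsg.Agent.LThreeMB Cfsg.Agent.BabyComp Cfsg.Agent.MonsterN.LitInst
open Cfsg.Agent.BabyComp.Main Cfsg.Agent.BabyComp.BaseTwo
open Cfsg.Agent.MonsterX.MainBasic Cfsg.Agent.MonsterX.Model
open Cfsg.Agent.H713.Spor Cfsg.Agent.H909.PwM

/-- the three alternatives -/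
def AltB {K : Type} [Group K] (A : Subgroup K) : Prop :=
  7 ∣ Nat.card A ∨ (∃ a ∈ A, ∃ r : ℕ, r.Prime ∧ 5 ≤ r ∧ orderOf a = 2 * r) ∨
    ∃ a ∈ A, orderOf a = 6 ∧ cn (a ^ 3) ≤ 26489012826931200 ∧ Nat.card A ≤ 2916 * cn a

theorem two_BM {R : Subgroup BM} (hm : Mx R) (h0 : core 2 R ≠ ⊥) : AltB R := by
  have := Cfsg.Agent.R2.H4.Mon.MonFr.finite_model
  have := BMx.Loc5.fin_BM
  by_cases h7 : 7 ∣ Nat.card R
  · exact Or.inl h7
  by_cases h5 : ∃ a ∈ R, ∃ r : ℕ, r.Prime ∧ 5 ≤ r ∧ orderOf a = 2 * r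
  · exact Or.inr (Or.inl h5)
  refine Or.inr (Or.inr ?_)
  have d2 : 2 ∣ Nat.card BM := by rw [BMx.Loc5.card_BM]; norm_num
  have d3 : 3 ∣ Nat.card BM := by rw [BMx.Loc5.card_BM]; norm_num
  obtain ⟨Γ, hΓ, E⟩ := exists_ext
  obtain ⟨q, hq, hq3⟩ := cover
  set θ := (BB KDone.K KLinkInst.x₀).subtype with hθ
  have hinj : Function.Injective θ := Subtype.val_injective
  have hr : ∀ x, x * θ (tb KDone.K KLinkInst.x₀) = θ (tb KDone.K KLinkInst.x₀) * x → ∃ b, θ b = x := fun x hx =>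
    ⟨⟨x, mem_centralizer_singleton_iff.2 hx⟩, rfl⟩
  have hta : LThreeB.Row.TA (θ (tb KDone.K KLinkInst.x₀)) := ta_t
  have hA : IsA Γ (θ (tb KDone.K KLinkInst.x₀)) := by
    have h := Cfsg.Agent.R2.H10.Mon.TwoA.isA_of_ta hta
    exact ⟨h.1, h.2.1, fun h1 => h.2.2 ((hΓ _).1 h1)⟩
  set τ := tb KDone.K KLinkInst.x₀ with hτ
  have C := ctxB7 hq hinj hr hA h7 d3 hm
  have t2 := ne_top_of_pgroup Nat.prime_two Nat.prime_three (by norm_num) d3 (core_pgroup (S := R) 2)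
  have t3 := ne_top_of_pgroup Nat.prime_three Nat.prime_two (by norm_num) d2 (core_pgroup (S := R) 3)
  have hC : centralizer (core 2 R : Set BM) ≤ R := fun g hg => hm.cent h0 t2 (core_conj 2) (mem_cent.1 hg)
  obtain ⟨e, he, oe⟩ := exists_ord Nat.prime_two (core_pgroup (S := R) 2) h0
  have h3 : core 3 R ≠ ⊥ := by
    obtain ⟨c, hc, h1⟩ := E.syl _ (up_two (θ := θ) hq (core_pgroup (S := R) 2))
    obtain ⟨b, rfl⟩ := hr c (h1 _ ⟨τ, mem_comap.2 (by rw [hq.mapz]; exact one_mem _), rfl⟩).symm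
    refine core_other (Or.inl ⟨rfl, rfl⟩) hC (fun r hr hd => ?_) (z := q b) (fun x hx => ?_) fun h => no_pt7 E hq C h hc
    · rcases primes_cent hC Nat.prime_two (map_subtype_le _ he) oe (fun c hc => mem_cent.1 hc e he) hr hd with h | ⟨a, ha, h⟩
      · exact Or.inl h
      · rcases prime_cases hr with k | k | k
        exacts [Or.inl k, Or.inr k, absurd ⟨a, ha, r, hr, k, h⟩ h5]
    · obtain ⟨x, rfl⟩ := hq.surj x
      rw [← map_mul, ← map_mul, hinj (by rw [map_mul, map_mul, h1 _ ⟨x, hx, rfl⟩] : θ (x * b) = θ (b * x))]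
  have hN : ∀ x, (∀ a ∈ core 3 R, x * a = a * x) → x ∈ R := fun x hx => hm.cent h3 t3 (core_conj 3) hx
  obtain ⟨w, P, hw3, hP, hw⟩ := chr_B (core_pgroup (S := R) 3)
  obtain ⟨h4, hQ⟩ := quat E hq hinj (core_pgroup (S := R) 2) (fun b hb => no_pt7 E hq C hb) hw3
    (core_conj 2 w (hN w fun a ha => (hw a ha).symm))
    fun x hx h => fpf Nat.prime_three Nat.prime_two (by norm_num) hP hw (fun x _ => hN x) hx h
  obtain ⟨b, rfl⟩ := hq.surj e
  have h1 := hQ b he fun h => by rw [h, orderOf_one] at oe; omega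
  have h729 : Nat.card (core 3 R) ≤ 729 := hq3 b h1 _ (core_pgroup 3)
    fun a ha => core_comm Nat.prime_two Nat.prime_three (by norm_num) he ha
  obtain ⟨x, hx, ox⟩ := exists_ord Nat.prime_three (core_pgroup (S := R) 3) h3
  have hc : Commute (q b) x := core_comm Nat.prime_two Nat.prime_three (by norm_num) he hx
  refine ⟨q b * x, mul_mem (map_subtype_le _ he) (map_subtype_le _ hx), ?_, ?_, ?_⟩
  · rw [hc.orderOf_mul_eq_mul_orderOf_of_coprime (by rw [oe, ox]; norm_num), oe, ox]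
  · have e3 : (q b * x) ^ 3 = q b := by
      rw [hc.mul_pow, ← ox, pow_orderOf_eq_one, mul_one, ox, pow_succ, ← oe, pow_orderOf_eq_one, one_mul]
    rw [e3]
    have h2 : Nat.card (centralizer ({q b} : Set BM)) ≤ Nat.card (centralizer ({b} : Set (BB KDone.K KLinkInst.x₀))) := by
      rcases H451.Weak.Pure.card_ext hq b with h1 | h1 <;> omega
    refine h2.trans (le_trans ?_ (TwoA.card_cent_le (b := θ b) (by rw [← map_mul, h1]) hta))
    exact Nat.card_le_card_of_injective (fun x => ⟨θ x, mem_centralizer_singleton_iff.2 (by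
      rw [← map_mul, mem_centralizer_singleton_iff.1 x.2, map_mul])⟩)
      fun x y hxy => Subtype.ext (hinj (congrArg (fun z : centralizer ({θ b} : Set MG) => (z : MG)) hxy))
  · exact (card_le_mixed (core_conj 2) (core_conj 3) he hx).trans (Nat.mul_le_mul_right _ (Nat.mul_le_mul h4 h729))

end main

/-- **The Baby Monster, `O₂(A) ≠ 1`.** -/
theorem two_B {K : Type} [Group K] [Finite K] [IsSimpleGroup K] (h : Spor.IsoB K) {A : Subgroup K}
    {Γ : Subgroup (MulAut K)} (hA : MI A Γ) (h0 : pCore 2 A ≠ ⊥) : AltB A := by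
  obtain ⟨e⟩ := h
  have hc := card_map_of_injective (K := A) (f := e.toMonoidHom) e.injective
  rcases two_BM ((mx_of_mi (out_congr e S2084.result) hA).map e) (core_map_ne _ h0) with
    h | ⟨_, ⟨a, ha, rfl⟩, r, h1, h2, h3⟩ | ⟨_, ⟨a, ha, rfl⟩, h1, h2, h3⟩
  · exact Or.inl (hc ▸ h)
  · exact Or.inr (Or.inl ⟨a, ha, r, h1, h2, (e.orderOf_eq a).symm.trans h3⟩)
  · refine Or.inr (Or.inr ⟨a, ha, (e.orderOf_eq a).symm.trans h1, ?_, ?_⟩)
    · rw [← cn_congr e, map_pow]; exact h2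
    · rw [← cn_congr e, ← hc]; exact h3

end Cfsg.Agent.N2.Sp4T
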